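import Groth.Agent.Lib.ZMTStein.Birational
import Groth.Agent.Lib.FEt.NormalCover
import Mathlib.AlgebraicGeometry.Morphisms.Proper

/-!
# `f_* O = O` for proper birational morphisms to normal schemes; consequences
-/

universe u

open CategoryTheory AlgebraicGeometry

set_option linter.style.haveILetI false

namespace Groth.Agent.Lib.ZMTStein

variable {X Y : Scheme.{u}}

theorem bijective_app_of_normal [IsIntegral X] [IsIntegral Y] (f : X ⟶ Y) [IsProper f]
    (hY : Pi1.IsNormalScheme Y) (hξ : f (genericPoint ↥X) = genericPoint ↥Y)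
    (hbir : Function.Bijective (f.stalkMap (genericPoint ↥X))) (U : Y.Opens) (hU : IsAffineOpen U) :
    Function.Bijective (f.app U) := by
  rcases isEmpty_or_nonempty U with hUe | hUne
  · haveI : Subsingleton Γ(Y, U) := CommRingCat.subsingleton_of_isTerminal
      (Y.sheaf.isTerminalOfEqEmpty (TopologicalSpace.Opens.ext (Set.eq_empty_of_forall_notMem fun y hy => hUe.false ⟨y, hy⟩)))
    haveI : Subsingleton Γ(X, f ⁻¹ᵁ U) := CommRingCat.subsingleton_of_isTerminal
      (X.sheaf.isTerminalOfEqEmpty (TopologicalSpace.Opens.ext (Set.eq_empty_of_forall_notMem fun x hx => hUe.false ⟨f x, hx⟩)))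
    exact ⟨fun a b _ => Subsingleton.elim a b, fun b => ⟨0, Subsingleton.elim _ _⟩⟩
  have hgy : genericPoint Y ∈ U :=
    ((genericPoint_spec Y).mem_open_set_iff U.2).mpr ⟨hUne.some.1, trivial, hUne.some.2⟩
  have hgx : genericPoint X ∈ f ⁻¹ᵁ U := by show f (genericPoint X) ∈ U; rw [hξ]; exact hgy
  haveI : Nonempty (f ⁻¹ᵁ U) := ⟨⟨_, hgx⟩⟩
  let σ := RingEquiv.ofBijective (f.stalkMap (genericPoint X)).hom hbir
  let gY : Γ(Y, U) →+* Y.presheaf.stalk (f (genericPoint X)) :=
    (Y.presheaf.germ U (f (genericPoint X)) (show f (genericPoint X) ∈ U from hgx)).hom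
  let gX : Γ(X, f ⁻¹ᵁ U) →+* X.functionField := (X.presheaf.germ (f ⁻¹ᵁ U) (genericPoint X) hgx).hom
  have hgX : Function.Injective gX := germ_injective_of_isIntegral X _ hgx
  have hcomp : ∀ a, gX (f.app U a) = σ (gY a) := fun a =>
    (Scheme.Hom.germ_stalkMap_apply f U (genericPoint X) hgx a).symm
  letI : Algebra Γ(Y, U) X.functionField := (σ.toRingHom.comp gY).toAlgebra
  haveI : IsFractionRing Γ(Y, U) X.functionField := by
    haveI hF := functionField_isFractionRing_of_isAffineOpen Y U hU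
    let τ : Y.functionField ≃+* Y.presheaf.stalk (f (genericPoint X)) :=
      (Y.presheaf.stalkCongr (Inseparable.of_eq hξ.symm)).commRingCatIsoToRingEquiv
    refine IsLocalization.isLocalization_of_algEquiv (nonZeroDivisors Γ(Y, U))
      (AlgEquiv.ofRingEquiv (f := τ.trans σ) fun a => ?_)
    refine congrArg σ ?_
    show (Y.presheaf.stalkSpecializes (Inseparable.of_eq hξ.symm).specializes').hom _ = _
    exact TopCat.Presheaf.germ_stalkSpecializes_apply Y.presheaf _ _ _
  refine ⟨fun a b h => IsFractionRing.injective Γ(Y, U) X.functionField ?_, fun s => ?_⟩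
  · show σ (gY a) = σ (gY b)
    rw [← hcomp, ← hcomp, h]
  haveI := FEt.NormalCover.isIntegrallyClosed_sections hY (U := U)
  have hint : (f.app U).hom.IsIntegral := by
    haveI : IsAffine (U : Scheme.{u}) := hU
    haveI : UniversallyClosed (f ∣_ U) := IsZariskiLocalAtTarget.restrict (P := @UniversallyClosed) (f := f) inferInstance U
    have h := isIntegral_appTop_of_universallyClosed (f ∣_ U)
    rw [morphismRestrict_appTop] at h
    have e : f.app U = Y.presheaf.map (eqToHom U.ι_image_top).op ≫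
        ((f.app (U.ι ''ᵁ ⊤)) ≫ X.presheaf.map (eqToHom (image_morphismRestrict_preimage f U ⊤)).op) ≫
          X.presheaf.map (eqToHom (f ⁻¹ᵁ U).ι_image_top.symm).op := by
      rw [Category.assoc, ← Functor.map_comp, Scheme.Hom.naturality_assoc, ← Functor.map_comp]
      exact ((congrArg (f.app U ≫ ·) ((congrArg X.presheaf.map (Subsingleton.elim _ (𝟙 _))).trans
        (X.presheaf.map_id _))).trans (Category.comp_id _)).symm
    rw [e]
    haveI : IsIso (Y.presheaf.map (eqToHom U.ι_image_top).op) := Functor.map_isIso _ _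
    refine RingHom.IsIntegral.trans _ _ ?_ (RingHom.IsIntegral.trans _ _ h ?_)
    · exact RingHom.isIntegral_of_surjective _ (ConcreteCategory.bijective_of_isIso _).2
    · haveI : IsIso (X.presheaf.map (eqToHom (f ⁻¹ᵁ U).ι_image_top.symm).op) := Functor.map_isIso _ _
      exact RingHom.isIntegral_of_surjective _
        (@ConcreteCategory.bijective_of_isIso _ _ _ _ _ _ _ _ _ (Functor.map_isIso X.presheaf (eqToHom (f ⁻¹ᵁ U).ι_image_top.symm).op)).2
  obtain ⟨P, hP, hPs⟩ := hint s
  have : IsIntegral Γ(Y, U) (gX s) := by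
    refine ⟨P, hP, ?_⟩
    show Polynomial.eval₂ (σ.toRingHom.comp gY) (gX s) P = 0
    rw [show σ.toRingHom.comp gY = gX.comp (f.app U).hom from RingHom.ext fun a => (hcomp a).symm,
      ← Polynomial.hom_eval₂, hPs, map_zero]
  obtain ⟨a, ha⟩ := IsIntegrallyClosed.isIntegral_iff.mp this
  exact ⟨a, hgX ((hcomp a).trans ha)⟩

theorem surjective_of_generic (f : X ⟶ Y) [IsIntegral X] [IsIntegral Y] [UniversallyClosed f]
    (hξ : f (genericPoint ↥X) = genericPoint ↥Y) : Surjective f := by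
  refine ⟨fun y => ?_⟩
  have h := (f.isClosedMap.isClosed_range).closure_subset_iff.mpr
    (Set.singleton_subset_iff.mpr (show genericPoint Y ∈ Set.range f from ⟨_, hξ⟩))
  rw [(genericPoint_spec Y).def] at h
  exact h trivial

theorem generic_of_isIso_restrict (f : X ⟶ Y) [IsIntegral X] [IsIntegral Y] (U : Y.Opens)
    (hne : (U : Set Y).Nonempty) (hU : IsIso (f ∣_ U)) :
    f (genericPoint ↥X) = genericPoint ↥Y ∧ Function.Bijective (f.stalkMap (genericPoint ↥X)) := by
  obtain ⟨y, hy⟩ := hne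
  haveI : Nonempty ↥(U : Scheme.{u}) := ⟨⟨y, hy⟩⟩
  haveI : Nonempty ↥((f ⁻¹ᵁ U : X.Opens) : Scheme.{u}) := ⟨(inv (f ∣_ U)).base ⟨y, hy⟩⟩
  haveI : IsIntegral ((f ⁻¹ᵁ U : X.Opens) : Scheme.{u}) := isIntegral_of_isOpenImmersion (f ⁻¹ᵁ U).ι
  let g := genericPoint ↥((f ⁻¹ᵁ U : X.Opens) : Scheme.{u})
  have h1 : (f ⁻¹ᵁ U).ι g = genericPoint X := genericPoint_eq_of_isOpenImmersion _
  have h2 : ((f ∣_ U) ≫ U.ι) g = genericPoint Y := genericPoint_eq_of_isOpenImmersion _
  rw [morphismRestrict_ι] at h2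
  refine ⟨by rw [← h1]; exact h2, ?_⟩
  have h3 : IsIso (((f ⁻¹ᵁ U).ι ≫ f).stalkMap g) := by
    have : ∀ k : ((f ⁻¹ᵁ U : X.Opens) : Scheme.{u}) ⟶ Y, (f ∣_ U) ≫ U.ι = k → IsIso (k.stalkMap g) := by
      rintro k rfl; infer_instance
    exact this _ (morphismRestrict_ι f U)
  rw [Scheme.Hom.stalkMap_comp] at h3
  haveI := @IsIso.of_isIso_comp_right _ _ _ _ _ (f.stalkMap ((f ⁻¹ᵁ U).ι g)) ((f ⁻¹ᵁ U).ι.stalkMap g) inferInstance h3
  have : ∀ x, (f ⁻¹ᵁ U).ι g = x → Function.Bijective (f.stalkMap x) := by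
    rintro x rfl; exact ConcreteCategory.bijective_of_isIso _
  exact this _ h1

end Groth.Agent.Lib.ZMTStein
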