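import Mathlib.AlgebraicGeometry.ZariskisMainTheorem
import Mathlib.AlgebraicGeometry.Morphisms.AffineAnd

/-!
# Zariski's main theorem for morphisms with `f_* O = O`

If `f` is separated of finite type and `O_Y → f_* O_X` is bijective, then `f` is an isomorphism over an open
`V` whose preimage is the quasi-finite locus; fibres outside `V` have no isolated points.
-/

universe u

open CategoryTheory AlgebraicGeometry

namespace Groth.Agent.Lib.ZMTStein

variable {X Y : Scheme.{u}} (f : X ⟶ Y)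

theorem isIso_fromNormalization [QuasiCompact f] [QuasiSeparated f]
    (hO : ∀ U : Y.Opens, IsAffineOpen U → Function.Bijective (f.app U)) : IsIso f.fromNormalization := by
  refine (HasAffineProperty.eq_targetAffineLocally (MorphismProperty.isomorphisms Scheme.{u}) ▸ ?_ :
    MorphismProperty.isomorphisms Scheme.{u} f.fromNormalization)
  intro U
  refine ⟨U.2.preimage f.fromNormalization, ?_⟩
  rw [morphismRestrict_appTop]
  suffices h : IsIso (f.fromNormalization.app U.1) by
    have h' : IsIso (f.fromNormalization.app (U.1.ι ''ᵁ ⊤)) := by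
      rw [Scheme.Opens.ι_image_top]; exact h
    exact @IsIso.comp_isIso _ _ _ _ _ _ _ h' (Functor.map_isIso _ _)
  rw [f.fromNormalization_app U.2]
  letI := (f.app U.1).hom.toAlgebra
  suffices IsIso (CommRingCat.ofHom (algebraMap Γ(Y, U.1) (integralClosure Γ(Y, U.1) Γ(X, f ⁻¹ᵁ U.1)))) by
    infer_instance
  refine (ConcreteCategory.isIso_iff_bijective _).mpr ⟨fun a b h => (hO _ U.2).1 (congrArg Subtype.val h),
    fun b => ?_⟩
  obtain ⟨a, ha⟩ := (hO _ U.2).2 b.1
  exact ⟨a, Subtype.ext ha⟩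

theorem exists_open [LocallyOfFiniteType f] [IsSeparated f] [QuasiCompact f]
    (hO : ∀ U : Y.Opens, IsAffineOpen U → Function.Bijective (f.app U)) :
    ∃ V : Y.Opens, IsIso (f ∣_ V) ∧ (f ⁻¹ᵁ V : Set X) = {x | f.QuasiFiniteAt x} ∧
      ∀ y : Y, y ∉ (V : Set Y) → ∀ x : ↥(f.fiber y), ¬ IsOpen ({x} : Set ↥(f.fiber y)) := by
  haveI := isIso_fromNormalization f hO
  obtain ⟨U, hU, hpre⟩ := f.exists_isIso_morphismRestrict_toNormalization
  let V : Y.Opens := inv f.fromNormalization ⁻¹ᵁ U
  have hV : f.fromNormalization ⁻¹ᵁ V = U := by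
    rw [← Scheme.Hom.comp_preimage, IsIso.hom_inv_id]
    rfl
  have hf : f ⁻¹ᵁ V = f.toNormalization ⁻¹ᵁ U := by
    conv_lhs => rw [← f.toNormalization_fromNormalization]
    rw [Scheme.Hom.comp_preimage, hV]
  refine ⟨V, ?_, ?_, fun y hy x hx => ?_⟩
  · have h1 : IsIso (f.toNormalization ∣_ (f.fromNormalization ⁻¹ᵁ V)) := by rw [hV]; exact hU
    have h2 : ∀ g : X ⟶ Y, f.toNormalization ≫ f.fromNormalization = g → IsIso (g ∣_ V) := by
      rintro g rfl
      rw [morphismRestrict_comp]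
      exact @IsIso.comp_isIso _ _ _ _ _ _ _ h1
        (IsZariskiLocalAtTarget.restrict (P := MorphismProperty.isomorphisms Scheme.{u}) (isIso_fromNormalization f hO) V)
    exact h2 f f.toNormalization_fromNormalization
  · rw [hf]; exact hpre
  · obtain ⟨x₀, hx₀⟩ : ∃ x₀, x₀ = f.fiberι y x := ⟨_, rfl⟩
    have hfx : f x₀ = y := hx₀ ▸ (f.range_fiberι y).le ⟨x, rfl⟩
    subst hfx
    have hq : f.QuasiFiniteAt x₀ := by
      rw [Scheme.Hom.quasiFiniteAt_iff_isOpen_singleton_asFiber]
      have : f.asFiber x₀ = x := (f.fiberι _).isEmbedding.injective ((f.fiberι_asFiber x₀).trans hx₀)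
      rw [this]; exact hx
    have : x₀ ∈ f ⁻¹ᵁ V := hf ▸ (hpre.ge hq)
    exact hy this

end Groth.Agent.Lib.ZMTStein
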