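import Groth.Agent.Lib.ZMTStein.Basic
import Groth.Agent.Lib.SemiLocalDimOne.KrullAkizuki
import Mathlib.AlgebraicGeometry.FunctionField
import Mathlib.RingTheory.Localization.AsSubring

/-!
# Birational morphisms over points of codimension at most one

* `finite_primes`: over a Noetherian domain, a birational algebra has finitely many primes over a prime
  of height at most one (Krull–Akizuki);
* `finite_fibre`: a quasi-compact birational morphism of integral schemes has finite fibres over points
  whose local ring has dimension at most one.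
-/

universe u

open CategoryTheory AlgebraicGeometry

set_option linter.style.haveILetI false

namespace Groth.Agent.Lib.ZMTStein

open Groth.Agent.Lib.SemiLocalDimOne

lemma finite_of_artinian_quot {C : Type*} [CommRing C] (I : Ideal C) (h : IsArtinianRing (C ⧸ I)) :
    {Q : PrimeSpectrum C | I ≤ Q.asIdeal}.Finite := by
  refine (Set.finite_range (PrimeSpectrum.comap (Ideal.Quotient.mk I))).subset fun Q hQ => ?_
  have hle : RingHom.ker (Ideal.Quotient.mk I) ≤ Q.asIdeal := by rw [Ideal.mk_ker]; exact hQ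
  refine ⟨⟨Q.asIdeal.map (Ideal.Quotient.mk I),
    Ideal.map_isPrime_of_surjective Ideal.Quotient.mk_surjective hle⟩, PrimeSpectrum.ext ?_⟩
  show Ideal.comap (Ideal.Quotient.mk _) (Q.asIdeal.map _) = Q.asIdeal
  rw [Ideal.comap_map_of_surjective _ Ideal.Quotient.mk_surjective, ← RingHom.ker_eq_comap_bot]
  exact sup_eq_left.mpr hle

theorem finite_primes {A B K : Type u} [CommRing A] [IsDomain A] [IsNoetherianRing A] [CommRing B]
    [Field K] [Algebra A K] [IsFractionRing A K] [Algebra A B] [Algebra B K] [IsScalarTower A B K]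
    (hinj : Function.Injective (algebraMap B K)) (p : Ideal A) [p.IsPrime]
    (hp : ringKrullDim (Localization.AtPrime p) ≤ 1) :
    {q : PrimeSpectrum B | q.asIdeal.comap (algebraMap A B) = p}.Finite := by
  classical
  by_cases hp0 : p = ⊥
  · subst hp0
    refine Set.Subsingleton.finite fun q₁ h₁ q₂ h₂ => ?_
    have key : ∀ q : PrimeSpectrum B, q.asIdeal.comap (algebraMap A B) = ⊥ → q.asIdeal = ⊥ := by
      intro q hq
      rw [eq_bot_iff]
      intro b hb
      obtain ⟨⟨a, s⟩, e⟩ := IsLocalization.surj (nonZeroDivisors A) (algebraMap B K b)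
      have e' : b * algebraMap A B s = algebraMap A B a := hinj (by
        rw [map_mul, ← IsScalarTower.algebraMap_apply, ← IsScalarTower.algebraMap_apply]; exact e)
      have ha : a ∈ (⊥ : Ideal A) := hq ▸ (Ideal.mem_comap.mpr (e' ▸ Ideal.mul_mem_right _ _ hb))
      rw [Ideal.mem_bot.mp ha, map_zero, mul_eq_zero] at e
      refine e.elim (fun h => Ideal.mem_bot.mpr (hinj (h.trans (map_zero _).symm))) fun h => ?_
      exact absurd (IsFractionRing.injective A K (h.trans (map_zero _).symm)) (nonZeroDivisors.ne_zero s.2)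
    exact PrimeSpectrum.ext ((key q₁ h₁).trans (key q₂ h₂).symm)
  obtain ⟨a, hap, ha⟩ := (Submodule.ne_bot_iff p).mp hp0
  let R := Localization.AtPrime p
  haveI : Ring.KrullDimLE 1 R := Ring.krullDimLE_iff.mpr (by exact_mod_cast hp)
  haveI : IsDomain R := IsLocalization.isDomain_localization p.primeCompl_le_nonZeroDivisors
  letI : Algebra R K := (IsLocalization.lift (M := p.primeCompl) (g := algebraMap A K)
    (fun s => IsUnit.mk0 _ fun h => s.2 (by
      rw [IsFractionRing.injective A K (h.trans (map_zero _).symm)]; exact p.zero_mem))).toAlgebra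
  haveI : IsScalarTower A R K := IsScalarTower.of_algebraMap_eq fun x => by
    rw [RingHom.algebraMap_toAlgebra, IsLocalization.lift_eq]
  haveI : IsFractionRing R K :=
    IsFractionRing.isFractionRing_of_isDomain_of_isLocalization p.primeCompl R K
  -- the localization of `B`, as a subalgebra of `K`
  haveI : IsDomain B := hinj.isDomain
  let S : Submonoid B := Algebra.algebraMapSubmonoid B p.primeCompl
  have hS : S ≤ nonZeroDivisors B := by
    rintro _ ⟨s, hs, rfl⟩
    refine mem_nonZeroDivisors_of_ne_zero fun h => ?_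
    have := congrArg (algebraMap B K) h
    rw [← IsScalarTower.algebraMap_apply, map_zero] at this
    exact hs (IsFractionRing.injective A K (this.trans (map_zero _).symm) ▸ p.zero_mem)
  let L := Localization S
  let g : L →+* K := IsLocalization.lift (M := S) (g := algebraMap B K) (fun s => IsUnit.mk0 _ fun h =>
    nonZeroDivisors.ne_zero (hS s.2) (hinj (h.trans (map_zero _).symm)))
  have hg : Function.Injective g := (IsLocalization.lift_injective_iff _).mpr fun x y =>
    ⟨fun h => congrArg (algebraMap B K) (IsLocalization.injective L hS h), fun h => congrArg _ (hinj h)⟩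
  let f : R →+* L := IsLocalization.map L (algebraMap A B) (show p.primeCompl ≤ S.comap (algebraMap A B) from Submonoid.le_comap_map p.primeCompl)
  letI : Algebra R L := f.toAlgebra
  have hgf : g.comp f = algebraMap R K := by
    refine IsLocalization.ringHom_ext p.primeCompl (RingHom.ext fun x => ?_)
    simp only [RingHom.comp_apply, f, g, IsLocalization.map_eq, IsLocalization.lift_eq]
    rw [← IsScalarTower.algebraMap_apply, ← IsScalarTower.algebraMap_apply]
  let gA : L →ₐ[R] K := { g with commutes' := fun r => RingHom.congr_fun hgf r }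
  let A' : Subalgebra R K := gA.range
  let e : L ≃ₐ[R] A' := AlgEquiv.ofInjective gA hg
  let r : R := algebraMap A R a
  have hr : r ≠ 0 := fun h =>
    ha (IsLocalization.injective R p.primeCompl_le_nonZeroDivisors (h.trans (map_zero _).symm))
  have hfin : {Q : PrimeSpectrum A' | algebraMap R A' r ∈ Q.asIdeal}.Finite :=
    (finite_of_artinian_quot (Ideal.span {algebraMap R A' r})
      (KrullAkizuki.isArtinianRing_quotient A' hr)).subset fun Q hQ =>
        (Ideal.span_le.mpr (Set.singleton_subset_iff.mpr hQ) : _ ≤ Q.asIdeal)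
  refine (hfin.image (fun Q => PrimeSpectrum.comap
    ((e.toAlgHom.toRingHom).comp (algebraMap B L)) Q)).subset fun q hq => ?_
  have hdisj : Disjoint (S : Set B) (q.asIdeal : Set B) := by
    rw [Set.disjoint_left]
    rintro _ ⟨s, hs, rfl⟩ hsq
    exact hs (hq ▸ (Ideal.mem_comap.mpr hsq))
  haveI := IsLocalization.isPrime_of_isPrime_disjoint S L q.asIdeal q.2 hdisj
  refine ⟨PrimeSpectrum.comap e.symm.toAlgHom.toRingHom
    ⟨q.asIdeal.map (algebraMap B L), inferInstance⟩, ?_, ?_⟩
  · show e.symm (algebraMap R A' r) ∈ q.asIdeal.map (algebraMap B L)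
    rw [e.symm.commutes]
    show f (algebraMap A R a) ∈ _
    rw [show f (algebraMap A R a) = algebraMap B L (algebraMap A B a) from IsLocalization.map_eq _ _]
    exact Ideal.mem_map_of_mem _ (Ideal.mem_comap.mp (hq.ge hap))
  · refine PrimeSpectrum.ext ?_
    refine Eq.trans ?_ (IsLocalization.comap_map_of_isPrime_disjoint S L q.2 hdisj)
    ext b
    change e.symm (e (algebraMap B L b)) ∈ q.asIdeal.map (algebraMap B L) ↔
      algebraMap B L b ∈ q.asIdeal.map (algebraMap B L)
    rw [e.symm_apply_apply]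

variable {X Y : Scheme.{u}}

theorem finite_fibre [IsIntegral X] [IsIntegral Y] [IsLocallyNoetherian Y] (f : X ⟶ Y) [QuasiCompact f]
    (hξ : f (genericPoint ↥X) = genericPoint ↥Y)
    (hbir : Function.Bijective (f.stalkMap (genericPoint ↥X))) (y : Y)
    (hy : ringKrullDim (Y.presheaf.stalk y) ≤ 1) : (f ⁻¹' {y}).Finite := by
  obtain ⟨_, ⟨U, hU, rfl⟩, hyU, -⟩ :=
    Y.isBasis_affineOpens.exists_subset_of_mem_open (Set.mem_univ y) isOpen_univ
  obtain ⟨T, hT, hTU⟩ : ∃ T : Finset X.affineOpens, (∀ W ∈ T, W.1 ≤ f ⁻¹ᵁ U) ∧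
      ∀ x, f x = y → ∃ W ∈ T, x ∈ W.1 := by
    have hc : IsCompact (f ⁻¹ᵁ U : Set X) := QuasiCompact.isCompact_preimage _ U.isOpen hU.isCompact
    obtain ⟨T, hT, hTf, hsub⟩ := hc.elim_finite_subcover_image
      (b := {W : X.affineOpens | W.1 ≤ f ⁻¹ᵁ U}) (c := fun W => (W.1 : Set X))
      (fun W _ => W.1.isOpen) (fun x hx => by
        obtain ⟨_, ⟨W, hW, rfl⟩, hxW, hsub⟩ :=
          X.isBasis_affineOpens.exists_subset_of_mem_open hx (f ⁻¹ᵁ U).isOpen
        exact Set.mem_biUnion (x := ⟨W, hW⟩) hsub hxW)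
    refine ⟨hTf.toFinset, fun W hW => hT (hTf.mem_toFinset.1 hW), fun x hx => ?_⟩
    obtain ⟨W, hW, hxW⟩ := Set.mem_iUnion₂.1 (hsub (show f x ∈ U from hx ▸ hyU))
    exact ⟨W, hTf.mem_toFinset.2 hW, hxW⟩
  refine Set.Finite.subset (Set.Finite.biUnion T.finite_toSet
    (t := fun W => {x : X | x ∈ W.1 ∧ f x = y}) fun W hW => ?_) fun x hx => by
      obtain ⟨W, hW, hxW⟩ := hTU x hx
      exact Set.mem_biUnion (Finset.mem_coe.2 hW) ⟨hxW, hx⟩
  rcases isEmpty_or_nonempty W.1 with hWe | hWne
  · exact (Set.finite_empty).subset fun x hx => hWe.false ⟨x, hx.1⟩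
  haveI : Nonempty U := ⟨⟨y, hyU⟩⟩
  have e : W.1 ≤ f ⁻¹ᵁ U := hT W hW
  haveI := IsLocallyNoetherian.component_noetherian (X := Y) ⟨U, hU⟩
  let A := Γ(Y, U)
  let B := Γ(X, W.1)
  let φ : A →+* B := (f.appLE U W.1 e).hom
  have hgy : genericPoint Y ∈ U := (genericPoint_spec Y).mem_open_set_iff U.2 |>.mpr ⟨y, trivial, hyU⟩
  have hgx : genericPoint X ∈ W.1 :=
    (genericPoint_spec X).mem_open_set_iff W.1.2 |>.mpr ⟨hWne.some.1, trivial, hWne.some.2⟩
  let KY := Y.presheaf.stalk (f (genericPoint X))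
  let σ : KY ≃+* X.functionField := RingEquiv.ofBijective (f.stalkMap (genericPoint X)).hom hbir
  letI : Algebra A B := φ.toAlgebra
  letI : Algebra A X.functionField :=
    (σ.toRingHom.comp (Y.presheaf.germ U (f (genericPoint X)) (hξ ▸ hgy)).hom).toAlgebra
  letI : Algebra B X.functionField := (X.presheaf.germ W.1 (genericPoint X) hgx).hom.toAlgebra
  haveI : IsScalarTower A B X.functionField := IsScalarTower.of_algebraMap_eq fun a => by
    show (f.stalkMap (genericPoint X)).hom (Y.presheaf.germ U _ _ a) = X.presheaf.germ W.1 _ hgx (f.appLE U W.1 e a)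
    rw [Scheme.Hom.germ_stalkMap_apply]
    exact (TopCat.Presheaf.germ_res_apply X.presheaf (homOfLE e) (genericPoint X) hgx _).symm
  haveI : IsFractionRing A X.functionField := by
    haveI hF := functionField_isFractionRing_of_isAffineOpen Y U hU
    let τ : Y.functionField ≃+* KY :=
      (Y.presheaf.stalkCongr (Inseparable.of_eq hξ.symm)).commRingCatIsoToRingEquiv
    refine IsLocalization.isLocalization_of_algEquiv (nonZeroDivisors A)
      (AlgEquiv.ofRingEquiv (f := τ.trans σ) fun a => ?_)
    show σ (τ (Y.presheaf.germ U (genericPoint Y) hgy a)) = σ (Y.presheaf.germ U (f (genericPoint X)) _ a)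
    refine congrArg σ ?_
    show (Y.presheaf.stalkSpecializes (Inseparable.of_eq hξ.symm).specializes').hom _ = _
    exact TopCat.Presheaf.germ_stalkSpecializes_apply Y.presheaf _ _ _
  have hinj : Function.Injective (algebraMap B X.functionField) := germ_injective_of_isIntegral X _ hgx
  let p := (hU.primeIdealOf ⟨y, hyU⟩)
  have hp : ringKrullDim (Localization.AtPrime p.asIdeal) ≤ 1 := by
    letI := TopCat.Presheaf.algebra_section_stalk Y.presheaf (⟨y, hyU⟩ : U)
    haveI := hU.isLocalization_stalk ⟨y, hyU⟩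
    rw [ringKrullDim_eq_of_ringEquiv
      (IsLocalization.algEquiv p.asIdeal.primeCompl (Localization.AtPrime p.asIdeal)
        (Y.presheaf.stalk y)).toRingEquiv]
    exact hy
  refine Set.Finite.subset ((finite_primes hinj p.asIdeal hp).image W.2.fromSpec) fun x hx => ?_
  refine ⟨W.2.primeIdealOf ⟨x, hx.1⟩, ?_, W.2.fromSpec_primeIdealOf ⟨x, hx.1⟩⟩
  have h1 : hU.fromSpec (PrimeSpectrum.comap φ (W.2.primeIdealOf ⟨x, hx.1⟩)) = hU.fromSpec p := by
    rw [hU.fromSpec_primeIdealOf ⟨y, hyU⟩]
    refine Eq.trans ?_ (hx.2)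
    refine (congrArg (fun k => k.base (W.2.primeIdealOf ⟨x, hx.1⟩))
      (IsAffineOpen.SpecMap_appLE_fromSpec f hU W.2 e)).trans ?_
    exact congrArg f (W.2.fromSpec_primeIdealOf ⟨x, hx.1⟩)
  exact congrArg PrimeSpectrum.asIdeal (hU.fromSpec.isOpenEmbedding.injective h1)

theorem not_isOpen_singleton_imp {f : X ⟶ Y} {V : Y.Opens}
    (h : ∀ y : Y, y ∉ (V : Set Y) → ∀ x : ↥(f.fiber y), ¬ IsOpen ({x} : Set ↥(f.fiber y)))
    [LocallyOfFiniteType f] [QuasiCompact f] (hs : Surjective f) {y : Y} (hy : (f ⁻¹' {y}).Finite) :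
    y ∈ V := by
  by_contra hyV
  obtain ⟨x, hx⟩ := hs.surj y
  haveI : Finite (f ⁻¹' {y}) := hy
  haveI : Finite ↥(f.fiber y) := Finite.of_equiv _ (f.fiberHomeo y).toEquiv.symm
  haveI : LocallyOfFiniteType (f.fiberToSpecResidueField y) := MorphismProperty.pullback_snd _ _ inferInstance
  haveI : JacobsonSpace ↥(f.fiber y) :=
    LocallyOfFiniteType.jacobsonSpace (f.fiberToSpecResidueField y)
  obtain ⟨x'⟩ : Nonempty ↥(f.fiber y) := ⟨(f.fiberHomeo y).symm ⟨x, hx⟩⟩
  exact h y hyV x' (isOpen_discrete _)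

end Groth.Agent.Lib.ZMTStein
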